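import Cfsg.Agent.H95.KilledInverted

/-!
An abelian normal subgroup with two commuting elements over it is killed when the relations between
their two commutation maps are generated by the evident ones.
-/

set_option autoImplicit false

namespace Cfsg.Agent.H95.KilledSplit

open Cfsg.Agent.Linear.Mult
open scoped commutatorElement

variable {l : ℕ} {X G : Type*} [Group X] [Group G] (E : LExt l X G)

/-- The preimage of a subgroup generated by elements with commuting lifts is abelian. -/
theorem pre_comm {s : Set G} (hs : ∀ a ∈ s, ∀ b ∈ s, Commute a b ∧ E.cm a b = 1) :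
    ∀ x ∈ E.pre (Subgroup.closure s), ∀ y ∈ E.pre (Subgroup.closure s), Commute x y := by
  set gs : Set X := {x | E.proj x ∈ s ∨ E.proj x = 1}
  have hgen : E.pre (Subgroup.closure s) ≤ Subgroup.closure gs := by
    intro x hx
    have hle : Subgroup.closure s ≤ (Subgroup.closure gs).map E.proj :=
      (Subgroup.closure_le _).2 fun a ha => by
        obtain ⟨y, rfl⟩ := E.surj a
        exact ⟨y, Subgroup.subset_closure (Or.inl ha), rfl⟩
    obtain ⟨w, hw, hwe⟩ := hle hx
    have hk : E.proj (w⁻¹ * x) = 1 := by rw [map_mul, map_inv, hwe, inv_mul_cancel]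
    simpa using mul_mem hw (Subgroup.subset_closure (k := gs) (Or.inr hk))
  have hc : ∀ x ∈ gs, ∀ y ∈ gs, Commute x y := by
    rintro x (hx | hx) y (hy | hy)
    · exact E.commute_of_cm (hs _ hx _ hy).2 rfl rfl
    · exact E.ker_central hy x
    · exact (E.ker_central hx y).symm
    · exact E.ker_central hy x
  have h1 : Subgroup.closure gs ≤ Subgroup.centralizer gs := (Subgroup.closure_le _).2 fun x hx =>
    Subgroup.mem_centralizer_iff.2 fun y hy => (hc y hy x hx).eq
  have h2 : Subgroup.closure gs ≤ Subgroup.centralizer (Subgroup.closure gs : Set X) := by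
    rw [Subgroup.centralizer_closure]; exact h1
  exact fun x hx y hy => Subgroup.mem_centralizer_iff.1 (h2 (hgen hy)) x (hgen hx)

/-- A pair moved into such a subgroup has commuting lifts. -/
theorem cm_eq_one_of_map {s : Set G} (hs : ∀ a ∈ s, ∀ b ∈ s, Commute a b ∧ E.cm a b = 1)
    {a b g x y : G} (hab : Commute a b) (hx : x ∈ Subgroup.closure s) (hy : y ∈ Subgroup.closure s)
    (ha : g * a * g⁻¹ = x) (hb : g * b * g⁻¹ = y) : E.cm a b = 1 := by
  obtain ⟨u, rfl⟩ := E.surj g
  have hz : E.proj (E.cm a b) = 1 := by rw [E.proj_cm, commutatorElement_eq_one_iff_commute.2 hab]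
  have hc := E.conj_cm (y := u) rfl a b
  rw [E.ker_central hz u, mul_inv_cancel_right, ha, hb] at hc
  rw [hc]
  exact commutatorElement_eq_one_iff_commute.2 (pre_comm E hs _
    (show E.proj _ ∈ _ by rw [E.proj_lift]; exact hx) _
    (show E.proj _ ∈ _ by rw [E.proj_lift]; exact hy))

/-- The product of powers of three elements. -/
def tri {H : Type*} [Group H] (e : Fin 3 → H) (n : Fin 3 → ℕ) : H :=
  e 0 ^ n 0 * e 1 ^ n 1 * e 2 ^ n 2

/-- The data: generators, exponents and witnesses of the relations. -/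
structure Relation (r s : G) (V Cr Cs : Subgroup G) (e : Fin 3 → G × G) (a b : G) : Prop where
  exists_wit : ∃ n : Fin 3 → ℕ, ∃ v ∈ V, ∃ cr ∈ Cr, ∃ cs ∈ Cs,
    a = tri (fun i => (e i).1) n * ⁅s, v⁆ * cr ∧ b = tri (fun i => (e i).2) n * ⁅r, v⁆⁻¹ * cs

theorem killed [Finite X] {ι : Type*} (b : ι → G) (r s : G) (cr cs : Set G) (e : Fin 3 → G × G)
    (hb : ∀ k, b k ^ 3 = 1) (hbb : ∀ k m, Commute (b k) (b m) ∧ E.cm (b k) (b m) = 1)
    (hrs : Commute r s) (hcm : E.cm r s = 1)
    (hnr : ∀ k, r * b k * r⁻¹ ∈ Subgroup.closure (Set.range b))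
    (hns : ∀ k, s * b k * s⁻¹ ∈ Subgroup.closure (Set.range b))
    (hcr : ∀ c ∈ cr, c ∈ Subgroup.closure (Set.range b) ∧ E.cm r c = 1)
    (hcs : ∀ c ∈ cs, c ∈ Subgroup.closure (Set.range b) ∧ E.cm s c = 1)
    (he : ∀ i, (e i).1 ∈ Subgroup.closure (Set.range b) ∧ (e i).2 ∈ Subgroup.closure (Set.range b))
    (hrel : ∀ k, Relation r s (Subgroup.closure (Set.range b)) (Subgroup.closure cr)
        (Subgroup.closure cs) e (b k) 1 ∧
      Relation r s (Subgroup.closure (Set.range b)) (Subgroup.closure cr)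
        (Subgroup.closure cs) e 1 (b k))
    (hcard : 27 ≤ Nat.card (Subgroup.closure (Set.range fun i => ⁅r, (e i).1⁆ * ⁅s, (e i).2⁆))) :
    E.Killed (Subgroup.closure (Set.range b ∪ {r, s})) := by
  classical
  set V := Subgroup.closure (Set.range b) with hV
  set A := E.pre V with hA
  have hAc : ∀ x ∈ A, ∀ y ∈ A, Commute x y :=
    pre_comm E (by rintro _ ⟨k, rfl⟩ _ ⟨m, rfl⟩; exact hbb k m)
  let _ : CommGroup A := { (inferInstance : Group A) with
    mul_comm := fun x y => Subtype.ext (hAc x x.2 y y.2) }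
  obtain ⟨R, rfl⟩ := E.surj r
  obtain ⟨S, rfl⟩ := E.surj s
  have hRS : Commute R S := E.commute_of_cm hcm rfl rfl
  have hnorm : ∀ U : X, (∀ k, E.proj U * b k * (E.proj U)⁻¹ ∈ V) → ∀ x ∈ A, U * x * U⁻¹ ∈ A := by
    intro U hU x hx
    show E.proj _ ∈ V
    rw [map_mul, map_mul, map_inv]
    have hx' : E.proj x ∈ V := hx
    have hle : V.map (MulAut.conj (E.proj U)).toMonoidHom ≤ V := by
      rw [hV, MonoidHom.map_closure, Subgroup.closure_le]
      rintro _ ⟨_, ⟨k, rfl⟩, rfl⟩
      exact hU k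
    exact hle ⟨_, hx', rfl⟩
  -- conjugation and commutation maps
  let cj : ∀ U : X, (∀ x ∈ A, U * x * U⁻¹ ∈ A) → (A →* A) := fun U hU =>
    { toFun := fun x => ⟨U * x * U⁻¹, hU x x.2⟩
      map_one' := Subtype.ext (by simp)
      map_mul' := fun x y => Subtype.ext (by simp only [Subgroup.coe_mul]; group) }
  let φ : ∀ U : X, (∀ x ∈ A, U * x * U⁻¹ ∈ A) → (A →* A) := fun U hU => cj U hU / MonoidHom.id A
  have φ_val : ∀ U hU (x : A), ((φ U hU x : A) : X) = ⁅U, (x : X)⁆ := fun U hU x => by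
    show U * x * U⁻¹ / (x : X) = _
    rw [commutatorElement_def, div_eq_mul_inv]
  set φr := φ R (hnorm R hnr) with hφr
  set φs := φ S (hnorm S hns) with hφs
  have φr_ker : ∀ x y : A, E.proj x = E.proj y → φr x = φr y := by
    intro x y hxy
    have hz : E.proj ((y⁻¹ * x : A) : X) = 1 := by
      rw [Subgroup.coe_mul, map_mul, Subgroup.coe_inv, map_inv, hxy, inv_mul_cancel]
    have h1 : φr (y⁻¹ * x) = 1 := Subtype.ext (by
      rw [φ_val]
      exact commutatorElement_eq_one_iff_mul_comm.2 (E.ker_central hz R))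
    rw [← mul_inv_cancel_left y x, map_mul, h1, mul_one]
  have φs_ker : ∀ x y : A, E.proj x = E.proj y → φs x = φs y := by
    intro x y hxy
    have hz : E.proj ((y⁻¹ * x : A) : X) = 1 := by
      rw [Subgroup.coe_mul, map_mul, Subgroup.coe_inv, map_inv, hxy, inv_mul_cancel]
    have h1 : φs (y⁻¹ * x) = 1 := Subtype.ext (by
      rw [φ_val]
      exact commutatorElement_eq_one_iff_mul_comm.2 (E.ker_central hz S))
    rw [← mul_inv_cancel_left y x, map_mul, h1, mul_one]
  have hcomm : ∀ x, φr (φs x) = φs (φr x) := by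
    intro x
    have h2 : cj R (hnorm R hnr) (cj S (hnorm S hns) x) = cj S (hnorm S hns) (cj R (hnorm R hnr) x) :=
      Subtype.ext (by
        show R * (S * x * S⁻¹) * R⁻¹ = S * (R * x * R⁻¹) * S⁻¹
        calc R * (S * x * S⁻¹) * R⁻¹ = (R * S) * x * (R * S)⁻¹ := by group
          _ = _ := by rw [hRS.eq]; group)
    simp only [φr, φs, φ, MonoidHom.div_apply, MonoidHom.id_apply, map_div, h2]
    rw [div_div_div_comm]
  have hsurj : ∀ g ∈ V, ∃ x : A, E.proj x = g := fun g hg => by
    obtain ⟨x, hx⟩ := E.surj g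
    exact ⟨⟨x, by show E.proj x ∈ V; rw [hx]; exact hg⟩, hx⟩
  let π : A →* G := E.proj.comp A.subtype
  have hcen : ∀ {U : X} {c : Set G} (hU : ∀ x ∈ A, U * x * U⁻¹ ∈ A),
      (∀ a ∈ c, a ∈ V ∧ E.cm (E.proj U) a = 1) →
      Subgroup.closure c ≤ (φ U hU).ker.map π := by
    intro U c hU hc
    rw [Subgroup.closure_le]
    intro a ha
    obtain ⟨x, hx⟩ := hsurj a (hc a ha).1
    refine ⟨x, Subtype.ext ?_, hx⟩
    rw [φ_val]
    exact commutatorElement_eq_one_iff_commute.2 (E.commute_of_cm (hc a ha).2 rfl hx)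
  have he1 : ∀ i, ∃ x : A, E.proj x = (e i).1 := fun i => hsurj _ (he i).1
  have he2 : ∀ i, ∃ x : A, E.proj x = (e i).2 := fun i => hsurj _ (he i).2
  choose f1 hf1 using he1
  choose f2 hf2 using he2
  set d : Fin 3 → A := fun i => φr (f1 i) * φs (f2 i) with hd
  set D := Subgroup.closure (Set.range d) with hD
  have key : ∀ a c : A, Relation (E.proj R) (E.proj S) V (Subgroup.closure cr) (Subgroup.closure cs)
      e (E.proj a) (E.proj c) → φr a * φs c ∈ D := by
    intro a c h
    obtain ⟨n, v, hv, gr, hgr, gs, hgs, ha, hc⟩ := h.exists_wit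
    obtain ⟨v', hv'⟩ := hsurj v hv
    obtain ⟨xr, hxr, hxr'⟩ := hcen (hnorm R hnr) hcr hgr
    obtain ⟨xs, hxs, hxs'⟩ := hcen (hnorm S hns) hcs hgs
    have hxr1 : φr xr = 1 := hxr
    have hxs1 : φs xs = 1 := hxs
    have e1 : φr a = φr (tri f1 n * φs v' * xr) := φr_ker _ _ (by
      rw [ha]
      show _ = π (tri f1 n * φs v' * xr)
      rw [map_mul, map_mul, hxr', show π (φs v') = ⁅E.proj S, v⁆ by
        show E.proj ((φs v' : A) : X) = _
        rw [φ_val, map_commutatorElement, hv']]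
      simp only [tri, map_mul, map_pow]
      show _ = E.proj (f1 0 : X) ^ _ * E.proj (f1 1 : X) ^ _ * E.proj (f1 2 : X) ^ _ * _ * _
      rw [hf1, hf1, hf1])
    have e2 : φs c = φs (tri f2 n * (φr v')⁻¹ * xs) := φs_ker _ _ (by
      rw [hc]
      show _ = π (tri f2 n * (φr v')⁻¹ * xs)
      rw [map_mul, map_mul, hxs', map_inv, show π (φr v') = ⁅E.proj R, v⁆ by
        show E.proj ((φr v' : A) : X) = _
        rw [φ_val, map_commutatorElement, hv']]
      simp only [tri, map_mul, map_pow]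
      show _ = E.proj (f2 0 : X) ^ _ * E.proj (f2 1 : X) ^ _ * E.proj (f2 2 : X) ^ _ * _ * _
      rw [hf2, hf2, hf2])
    have e3 : φr a * φs c = tri d n := by
      rw [e1, e2]
      simp only [map_mul, map_inv, hxr1, hxs1, mul_one, hcomm, tri, map_pow, d, mul_pow]
      rw [mul_mul_mul_comm, mul_inv_cancel, mul_one]
      ac_rfl
    rw [e3]
    have hm : ∀ i, d i ∈ D := fun i => Subgroup.subset_closure ⟨i, rfl⟩
    exact mul_mem (mul_mem (pow_mem (hm 0) _) (pow_mem (hm 1) _)) (pow_mem (hm 2) _)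
  have htop : ∀ H : Subgroup A, (∀ x : A, E.proj x = 1 → x ∈ H) →
      (∀ k, ∃ x ∈ H, E.proj (x : A) = b k) → ∀ x, x ∈ H := by
    intro H hk hgen x
    have hle : V ≤ H.map π := (Subgroup.closure_le _).2 fun _ ⟨k, hk'⟩ => by
      obtain ⟨y, hy, hye⟩ := hgen k
      exact ⟨y, hy, hye.trans hk'⟩
    obtain ⟨w, hw, hwe⟩ := hle x.2
    have : w⁻¹ * x ∈ H := hk _ (by
      show π (w⁻¹ * x) = 1
      rw [map_mul, map_inv, hwe]
      exact inv_mul_cancel _)
    simpa using mul_mem hw this
  have hr1 : ∀ x, φr x ∈ D := by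
    refine htop (D.comap φr) (fun x hx => ?_) fun k => ?_
    · rw [Subgroup.mem_comap, φr_ker x 1 (by rw [hx]; simp), map_one]; exact one_mem _
    · obtain ⟨x, hx⟩ := hsurj (b k) (Subgroup.subset_closure ⟨k, rfl⟩)
      refine ⟨x, ?_, hx⟩
      have := key x 1 (by rw [hx, OneMemClass.coe_one, map_one]; exact (hrel k).1)
      rwa [map_one, mul_one] at this
  have hs1 : ∀ x, φs x ∈ D := by
    refine htop (D.comap φs) (fun x hx => ?_) fun k => ?_
    · rw [Subgroup.mem_comap, φs_ker x 1 (by rw [hx]; simp), map_one]; exact one_mem _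
    · obtain ⟨x, hx⟩ := hsurj (b k) (Subgroup.subset_closure ⟨k, rfl⟩)
      refine ⟨x, ?_, hx⟩
      have := key 1 x (by rw [hx, OneMemClass.coe_one, map_one]; exact (hrel k).2)
      rwa [map_one, one_mul] at this
  -- the subgroup meets the kernel trivially
  have hexp : ∀ x : A, E.proj ((x ^ 3 : A) : X) = 1 := by
    have h3 : ∀ g ∈ V, g ^ 3 = 1 := by
      intro g hg
      have hcl : ∀ u ∈ V, ∀ w ∈ V, Commute u w := by
        intro u hu w hw
        obtain ⟨u', hu'⟩ := hsurj u hu
        obtain ⟨w', hw'⟩ := hsurj w hw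
        rw [← hu', ← hw']
        exact (hAc _ u'.2 _ w'.2).map E.proj
      induction hg using Subgroup.closure_induction with
      | mem g hg => obtain ⟨k, rfl⟩ := hg; exact hb k
      | one => exact one_pow _
      | mul u w hu hw ihu ihw => rw [(hcl u hu w hw).mul_pow, ihu, ihw, one_mul]
      | inv u _ ihu => rw [inv_pow, ihu, inv_one]
    intro x
    rw [Subgroup.coe_pow, map_pow]
    exact h3 _ x.2
  have hd3 : ∀ i, d i ^ 3 = 1 := fun i => by
    rw [hd]
    show (φr _ * φs _) ^ 3 = 1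
    rw [mul_pow, ← map_pow, ← map_pow, φr_ker _ 1 (by rw [hexp]; simp),
      φs_ker _ 1 (by rw [hexp]; simp), map_one, map_one, mul_one]
  have hDcard : Nat.card D ≤ 27 := by
    have hz : ∀ i, Nat.card (Subgroup.zpowers (d i)) ≤ 3 := fun i => by
      rw [Nat.card_zpowers]
      exact Nat.le_of_dvd (by norm_num) (orderOf_dvd_of_pow_eq_one (hd3 i))
    have hsup : ∀ H K : Subgroup A, Nat.card (H ⊔ K : Subgroup A) ≤ Nat.card H * Nat.card K := by
      intro H K
      rw [← Nat.card_prod]
      refine Nat.card_le_card_of_surjective (fun p => ⟨(p.1 : A) * p.2,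
        mul_mem (Subgroup.mem_sup_left p.1.2) (Subgroup.mem_sup_right p.2.2)⟩) ?_
      rintro ⟨x, hx⟩
      obtain ⟨y, hy, z, hz, rfl⟩ := Subgroup.mem_sup.1 hx
      exact ⟨(⟨y, hy⟩, ⟨z, hz⟩), rfl⟩
    have hle : D ≤ (Subgroup.zpowers (d 0) ⊔ Subgroup.zpowers (d 1)) ⊔ Subgroup.zpowers (d 2) := by
      rw [hD, Subgroup.closure_le]
      rintro _ ⟨i, rfl⟩
      fin_cases i
      · exact Subgroup.mem_sup_left (Subgroup.mem_sup_left (Subgroup.mem_zpowers _))
      · exact Subgroup.mem_sup_left (Subgroup.mem_sup_right (Subgroup.mem_zpowers _))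
      · exact Subgroup.mem_sup_right (Subgroup.mem_zpowers _)
    refine (Nat.card_mono (Set.toFinite _) hle).trans ((hsup _ _).trans ?_)
    calc _ ≤ (3 * 3) * 3 := Nat.mul_le_mul ((hsup _ _).trans (Nat.mul_le_mul (hz 0) (hz 1))) (hz 2)
      _ = 27 := rfl
  have hinj : ∀ x ∈ D, E.proj (x : A) = 1 → x = 1 := by
    have hle : Subgroup.closure (Set.range fun i => ⁅E.proj R, (e i).1⁆ * ⁅E.proj S, (e i).2⁆) ≤
        D.map π := by
      rw [Subgroup.closure_le]
      rintro _ ⟨i, rfl⟩
      refine ⟨d i, Subgroup.subset_closure ⟨i, rfl⟩, ?_⟩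
      show E.proj ((φr (f1 i) * φs (f2 i) : A) : X) = _
      rw [Subgroup.coe_mul, map_mul, φ_val, φ_val, map_commutatorElement, map_commutatorElement,
        hf1, hf2]
    let q : D → (D.map π : Subgroup G) := fun x => ⟨π x, x, x.2, rfl⟩
    have hq : Function.Bijective q :=
      (show Function.Surjective q from fun ⟨_, x, hx, hxe⟩ => ⟨⟨x, hx⟩, Subtype.ext hxe⟩).bijective_of_nat_card_le
        (hDcard.trans (hcard.trans (by
          have : Finite (D.map π : Subgroup G) := Finite.of_surjective q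
            fun ⟨_, x, hx, hxe⟩ => ⟨⟨x, hx⟩, Subtype.ext hxe⟩
          exact Nat.card_mono (Set.toFinite _) hle)))
    intro x hx hx1
    have := @hq.1 ⟨x, hx⟩ ⟨1, one_mem _⟩ (Subtype.ext (hx1.trans (map_one π).symm))
    exact congrArg Subtype.val this
  -- commutators of the preimage lie in it
  set C : Subgroup X := D.map A.subtype with hC
  set gens : Set X := (A : Set X) ∪ {R, S} with hgens
  have hCA : C ≤ A := Subgroup.map_subtype_le D
  have hgen : Subgroup.closure gens = E.pre (Subgroup.closure (Set.range b ∪ {E.proj R, E.proj S})) := by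
    refine le_antisymm ((Subgroup.closure_le _).2 ?_) fun x hx => ?_
    · rintro x (hx | hx | hx)
      · exact Subgroup.closure_mono Set.subset_union_left hx
      · subst hx; exact Subgroup.subset_closure (Or.inr (Or.inl rfl))
      · subst hx; exact Subgroup.subset_closure (Or.inr (Or.inr rfl))
    · have hle : Subgroup.closure (Set.range b ∪ {E.proj R, E.proj S}) ≤
          (Subgroup.closure gens).map E.proj := by
        rw [Subgroup.closure_le]
        rintro a (ha | ha | ha)
        · obtain ⟨y, rfl⟩ := hsurj a (Subgroup.subset_closure ha)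
          exact ⟨y, Subgroup.subset_closure (Or.inl y.2), rfl⟩
        · exact ⟨R, Subgroup.subset_closure (Or.inr (Or.inl rfl)), ha.symm⟩
        · exact ⟨S, Subgroup.subset_closure (Or.inr (Or.inr rfl)), ha.symm⟩
      obtain ⟨w, hw, hwe⟩ := hle hx
      have hk : w⁻¹ * x ∈ A := by
        show E.proj _ ∈ V
        rw [map_mul, map_inv, hwe, inv_mul_cancel]
        exact one_mem _
      simpa using mul_mem hw (Subgroup.subset_closure (k := gens) (Or.inl hk))
  have hN : Subgroup.closure gens ≤ Subgroup.normalizer (C : Set X) := by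
    rw [Subgroup.closure_le]
    intro y hy
    have hmap : C.map (MulAut.conj y).toMonoidHom ≤ C := by
      rintro _ ⟨_, ⟨x, hx, rfl⟩, rfl⟩
      show y * (x : X) * y⁻¹ ∈ C
      rcases hy with hy | hy | hy
      · rw [(hAc y hy x x.2).eq, mul_inv_cancel_right]; exact ⟨x, hx, rfl⟩
      · rw [hy]
        refine ⟨cj R (hnorm R hnr) x, ?_, rfl⟩
        have : cj R (hnorm R hnr) x = φr x * x := (div_mul_cancel _ x).symm
        show _ ∈ D
        rw [this]
        exact mul_mem (hr1 x) hx
      · rw [hy]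
        refine ⟨cj S (hnorm S hns) x, ?_, rfl⟩
        have : cj S (hnorm S hns) x = φs x * x := (div_mul_cancel _ x).symm
        show _ ∈ D
        rw [this]
        exact mul_mem (hs1 x) hx
    have heq := Subgroup.eq_of_le_of_card_ge hmap
      (Nat.card_congr (C.equivMapOfInjective _ (MulAut.conj y).injective).toEquiv).le
    show y ∈ Subgroup.normalizer (C : Set X)
    rw [Subgroup.mem_normalizer_iff]
    intro x
    constructor
    · intro hx
      rw [← heq]
      exact ⟨x, hx, rfl⟩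
    · intro hx
      rw [← heq] at hx
      obtain ⟨w, hw, hwe⟩ := hx
      rwa [← (MulAut.conj y).injective hwe]
  have hg : ∀ a ∈ gens, ∀ c ∈ gens, ⁅a, c⁆ ∈ C := by
    have h1 : ∀ x ∈ A, ⁅R, x⁆ ∈ C := fun x hx =>
      ⟨φr ⟨x, hx⟩, hr1 _, φ_val R _ ⟨x, hx⟩⟩
    have h2 : ∀ x ∈ A, ⁅S, x⁆ ∈ C := fun x hx =>
      ⟨φs ⟨x, hx⟩, hs1 _, φ_val S _ ⟨x, hx⟩⟩
    have hone : ∀ {x y : X}, Commute x y → ⁅x, y⁆ ∈ C := fun {x y} h => by
      rw [commutatorElement_eq_one_iff_commute.2 h]; exact one_mem _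
    rintro a (ha | rfl | rfl) c (hc | rfl | rfl)
    · exact hone (hAc a ha c hc)
    · rw [← commutatorElement_inv]; exact inv_mem (h1 a ha)
    · rw [← commutatorElement_inv]; exact inv_mem (h2 a ha)
    · exact h1 c hc
    · exact hone (Commute.refl _)
    · exact hone hRS
    · exact h2 c hc
    · exact hone hRS.symm
    · exact hone (Commute.refl _)
  intro z hz h1
  rw [← hgen] at hz
  have hle : ⁅Subgroup.closure gens, Subgroup.closure gens⁆ ≤ C := by
    rw [Subgroup.commutator_le]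
    intro x hx y hy
    rw [← commutatorElement_inv]
    refine inv_mem (KilledTwo.Cert.comm_mem hN rfl (g := x) (fun a ha => ?_) y hy)
    rw [← commutatorElement_inv]
    exact inv_mem (KilledTwo.Cert.comm_mem hN rfl (g := a) (fun c hc => hg c hc a ha) x hx)
  obtain ⟨x, hx, rfl⟩ := hle hz
  show ((x : A) : X) = 1
  rw [hinj x hx h1, OneMemClass.coe_one]

end Cfsg.Agent.H95.KilledSplit
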