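import Cfsg.Agent.Linear.Mult.Killed

/-!
A prime part of the multiplier generated by the commutator of the lifts of one commuting pair.
-/

set_option autoImplicit false

namespace Cfsg.Agent.H95.ThreeBound

open Subgroup Cfsg.Agent.Linear.Mult
open scoped commutatorElement

/-- A quotient of a stem extension by a central subgroup. -/
theorem stem_quot {G Γ : Type} [Group G] [Group Γ] {σ : Γ →* G} (hσ : Cfsg.IsStemExtension σ)
    {N : Subgroup Γ} [N.Normal] (hN : N ≤ σ.ker) :
    Cfsg.IsStemExtension (QuotientGroup.lift N σ hN) := by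
  refine ⟨fun g => ?_, fun y hy => ?_, fun y hy => ?_⟩
  · obtain ⟨x, hx⟩ := hσ.1 g
    exact ⟨QuotientGroup.mk x, hx⟩
  · obtain ⟨x, rfl⟩ := QuotientGroup.mk_surjective y
    rw [mem_center_iff]
    intro y'
    obtain ⟨x', rfl⟩ := QuotientGroup.mk_surjective y'
    exact congrArg (QuotientGroup.mk' N) (mem_center_iff.1 (hσ.2.1 hy) x')
  · obtain ⟨x, rfl⟩ := QuotientGroup.mk_surjective y
    rw [_root_.commutator_def,
      ← map_top_of_surjective (QuotientGroup.mk' N) (QuotientGroup.mk'_surjective N),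
      ← map_commutator, ← _root_.commutator_def]
    exact mem_map_of_mem _ (hσ.2.2 hy)

/-- Two elements of `G` have commuting lifts. -/
def CommLifts {G Γ : Type} [Group G] [Group Γ] (σ : Γ →* G) (r s : G) : Prop :=
  ∃ a b, σ a = r ∧ σ b = s ∧ a * b = b * a

theorem CommLifts.quot {G Γ : Type} [Group G] [Group Γ] {σ : Γ →* G} {r s : G}
    (h : CommLifts σ r s) {N : Subgroup Γ} [N.Normal] (hN : N ≤ σ.ker) :
    CommLifts (QuotientGroup.lift N σ hN) r s := by
  obtain ⟨a, b, ha, hb, hab⟩ := h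
  exact ⟨a, b, ha, hb, congrArg (QuotientGroup.mk' N) hab⟩

theorem exists_gen {G : Type} [Group G] [Finite G] {l : ℕ} (hl : l.Prime) {P : Subgroup G}
    (hidx : ¬ l ∣ P.index) {r s : G} (hrs : Commute r s) (hr : r ^ l = 1)
    (hkill : ∀ (X : Type) [Group X] [Finite X] (E : LExt l X G), E.cm r s = 1 → E.Killed P)
    {Γ : Type} [Group Γ] [Finite Γ] (σ : Γ →* G) (hσ : Cfsg.IsStemExtension σ) :
    ∃ e ∈ σ.ker, e ^ l = 1 ∧ ∀ z ∈ σ.ker, ∀ k : ℕ, z ^ l ^ k = 1 → z ∈ zpowers e := by
  have := Fact.mk hl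
  obtain ⟨a, ha⟩ := hσ.1 r
  obtain ⟨b, hb⟩ := hσ.1 s
  set e := ⁅a, b⁆ with he_def
  have hek : e ∈ σ.ker := by
    rw [MonoidHom.mem_ker, map_commutatorElement, ha, hb,
      commutatorElement_eq_one_iff_commute.2 hrs]
  have hc : ∀ y, y * e = e * y := mem_center_iff.1 (hσ.2.1 hek)
  have hel : e ^ l = 1 := by
    have hal : a ^ l ∈ σ.ker := by rw [MonoidHom.mem_ker, map_pow, ha, hr]
    have hpow : ∀ n : ℕ, ⁅a ^ n, b⁆ = e ^ n := by
      intro n
      induction n with
      | zero => rw [pow_zero, pow_zero, commutatorElement_one_left]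
      | succ n ih =>
        rw [pow_succ', show ⁅a * a ^ n, b⁆ = a * ⁅a ^ n, b⁆ * a⁻¹ * e by
            rw [he_def]; simp only [commutatorElement_def]; group,
          ih, (Commute.pow_right (show Commute a e from hc a) n).eq, mul_inv_cancel_right, ← pow_succ]
    rw [← hpow, commutatorElement_eq_one_iff_mul_comm]
    exact (mem_center_iff.1 (hσ.2.1 hal) b).symm
  refine ⟨e, hek, hel, fun z hz k hzk => ?_⟩
  set W := zpowers e with hW
  have hWn : W.Normal := ⟨fun w hw g => by
    obtain ⟨i, rfl⟩ := mem_zpowers_iff.1 hw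
    rw [((show Commute g e from hc g).zpow_right i).eq, mul_inv_cancel_right]
    exact hw⟩
  have hWk : W ≤ σ.ker := zpowers_le.2 hek
  have hcomm : CommLifts (QuotientGroup.lift W σ hWk) r s := by
    refine ⟨a, b, ha, hb, commutatorElement_eq_one_iff_mul_comm.1 ?_⟩
    show ⁅QuotientGroup.mk' W a, QuotientGroup.mk' W b⁆ = 1
    rw [← map_commutatorElement, QuotientGroup.mk'_apply, QuotientGroup.eq_one_iff]
    exact mem_zpowers e
  -- the quotient has kernel of order prime to `l`
  have hnd : ¬ l ∣ Nat.card (QuotientGroup.lift W σ hWk).ker := by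
    set ρ := QuotientGroup.lift W σ hWk
    have hρ : Cfsg.IsStemExtension ρ := stem_quot hσ hWk
    intro hdvd
    let _ : CommGroup ρ.ker := { (inferInstance : Group ρ.ker) with
      mul_comm := fun a b => Subtype.ext (mem_center_iff.1 (hρ.2.1 b.2) a.1) }
    obtain ⟨w, hw⟩ := exists_prime_orderOf_dvd_card' (G := ρ.ker) l hdvd
    have hne : (powMonoidHom l : ρ.ker →* ρ.ker).range ≠ ⊤ := by
      intro htop
      have hinj : Function.Injective (powMonoidHom l : ρ.ker →* ρ.ker) :=
        Finite.injective_iff_surjective.2 (MonoidHom.range_eq_top.1 htop)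
      have hw1 : w = 1 := hinj (by rw [powMonoidHom_apply, ← hw, pow_orderOf_eq_one, map_one])
      rw [hw1, orderOf_one] at hw
      exact hl.one_lt.ne hw
    obtain ⟨M, hM, hrM⟩ := (eq_top_or_exists_le_coatom _).resolve_left hne
    obtain ⟨g, hg⟩ : ∃ g, g ∉ M := by
      by_contra hall
      push Not at hall
      exact hM.1 (eq_top_iff.2 fun x _ => hall x)
    have hord : orderOf (g : ρ.ker ⧸ M) = l := by
      refine orderOf_eq_prime ?_ fun e' => hg ((QuotientGroup.eq_one_iff g).1 e')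
      rw [← QuotientGroup.mk_pow, QuotientGroup.eq_one_iff]
      exact hrM ⟨g, rfl⟩
    have hidxM : M.index = l := by
      rw [Subgroup.index, ← hord, orderOf_eq_card_of_forall_mem_zpowers]
      intro x
      obtain ⟨x, rfl⟩ := QuotientGroup.mk_surjective x
      have hlt : M < (zpowers (g : ρ.ker ⧸ M)).comap (QuotientGroup.mk' M) := by
        refine lt_of_le_of_ne (fun m hm => ?_) fun e' => hg (e' ▸ mem_zpowers _)
        rw [mem_comap, QuotientGroup.mk'_apply, (QuotientGroup.eq_one_iff m).2 hm]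
        exact one_mem _
      exact ((hM.2 _ hlt) ▸ mem_top x : x ∈ (zpowers (g : ρ.ker ⧸ M)).comap (QuotientGroup.mk' M))
    set N : Subgroup (Γ ⧸ W) := M.map ρ.ker.subtype with hNdef
    have hNk : N ≤ ρ.ker := map_subtype_le M
    have hN : N.Normal :=
      ⟨fun z hz g => by rw [mem_center_iff.1 (hρ.2.1 (hNk hz)) g, mul_inv_cancel_right]; exact hz⟩
    let τ := QuotientGroup.lift N ρ hNk
    have hτ : Cfsg.IsStemExtension τ := stem_quot hρ hNk
    have hcard : Nat.card τ.ker = l := by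
      let θ : ρ.ker →* τ.ker :=
        ((QuotientGroup.mk' N).comp ρ.ker.subtype).codRestrict τ.ker fun z => z.2
      have hθ : Function.Surjective θ := fun y => by
        obtain ⟨x, hx⟩ := QuotientGroup.mk_surjective (y : (Γ ⧸ W) ⧸ N)
        exact ⟨⟨x, by have := y.2; rwa [← hx] at this⟩, Subtype.ext hx⟩
      have hθk : θ.ker = M := by
        ext z
        rw [MonoidHom.mem_ker, ← OneMemClass.coe_eq_one]
        show QuotientGroup.mk' N (z : Γ ⧸ W) = 1 ↔ _
        rw [← MonoidHom.mem_ker, QuotientGroup.ker_mk']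
        exact mem_map_iff_mem ρ.ker.subtype_injective
      rw [← hidxM, ← hθk, Subgroup.index_ker, MonoidHom.range_eq_top.2 hθ, Subgroup.card_top]
    let E : LExt l ((Γ ⧸ W) ⧸ N) G := ⟨⟨τ, hτ.1, hτ.2.1⟩, hl, hcard⟩
    obtain ⟨u, v, hu, hv, huv⟩ := hcomm.quot hNk
    have hK : E.Killed P := hkill _ E (E.cm_eq_one_of_commute (a := u) (b := v) hu hv huv)
    obtain ⟨x, hx⟩ := exists_prime_orderOf_dvd_card' (G := τ.ker) l (by rw [hcard])
    obtain ⟨hxP, hxc⟩ := H50.mem_commutator_comap hτ (p := l) P (hl.coprime_iff_not_dvd.2 hidx) x x.2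
      (by rw [← SubgroupClass.coe_pow, ← hx, pow_orderOf_eq_one]; rfl)
    have h1 : (x : (Γ ⧸ W) ⧸ N) ∈ ⁅P.comap τ, P.comap τ⁆ :=
      (mem_commutator_iff_of (⟨_, hxP⟩ : P.comap τ)).2 (by
        rw [← MonoidHom.mem_ker, Abelianization.ker_of]; exact hxc)
    have := hK x h1 x.2
    rw [show x = 1 from Subtype.ext this, orderOf_one] at hx
    exact hl.one_lt.ne hx
  have hzk' : QuotientGroup.mk' W z ∈ (QuotientGroup.lift W σ hWk).ker := hz
  have hz1 : QuotientGroup.mk' W z = 1 := by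
    have h1 := orderOf_dvd_of_pow_eq_one
      (show QuotientGroup.mk' W z ^ l ^ k = 1 by rw [← map_pow, hzk, map_one])
    have h2 := orderOf_dvd_natCard (⟨_, hzk'⟩ : (QuotientGroup.lift W σ hWk).ker)
    rw [Subgroup.orderOf_mk] at h2
    exact orderOf_eq_one_iff.1 (Nat.eq_one_of_dvd_coprimes
      (Nat.Coprime.pow_left k (hl.coprime_iff_not_dvd.2 hnd)) h1 h2)
  rwa [QuotientGroup.mk'_apply, QuotientGroup.eq_one_iff] at hz1

end Cfsg.Agent.H95.ThreeBound
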