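import Cfsg.Agent.H95.Transfer.KilledSplit

/-!
A two-generator subgroup whose commutator is central with commuting lifts is killed.
-/

set_option autoImplicit false

namespace Cfsg.Agent.H95.KilledHeisenberg

open Cfsg.Agent.Linear.Mult
open scoped commutatorElement

variable {l : ℕ} {X G : Type*} [Group X] [Group G] (E : LExt l X G)

theorem killed [Finite X] {a b c : G} (hc : ⁅a, b⁆ = c) (hal : a ^ l = 1) (hcl : c ≠ 1)
    (hac : E.cm a c = 1) (hbc : E.cm b c = 1) : E.Killed (Subgroup.closure {a, b}) := by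
  obtain ⟨u, rfl⟩ := E.surj a
  obtain ⟨v, rfl⟩ := E.surj b
  set d := ⁅u, v⁆ with hd
  have hdc : E.proj d = c := by rw [hd, map_commutatorElement, hc]
  have hu : Commute u d := E.commute_of_cm hac rfl hdc
  have hv : Commute v d := E.commute_of_cm hbc rfl hdc
  set gens : Set X := {u, v} ∪ {x | E.proj x = 1} with hgens
  have hgen : Subgroup.closure gens = E.pre (Subgroup.closure {E.proj u, E.proj v}) := by
    refine le_antisymm ((Subgroup.closure_le _).2 ?_) fun x hx => ?_
    · rintro x ((hx | hx) | hx)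
      · rw [hx]; exact Subgroup.subset_closure (Or.inl rfl)
      · rw [Set.mem_singleton_iff.1 hx]; exact Subgroup.subset_closure (Or.inr rfl)
      · show E.proj x ∈ Subgroup.closure ({E.proj u, E.proj v} : Set G)
        rw [show E.proj x = 1 from hx]
        exact one_mem _
    · have hle : Subgroup.closure {E.proj u, E.proj v} ≤ (Subgroup.closure gens).map E.proj := by
        rw [Subgroup.closure_le]
        rintro a (ha | ha)
        · exact ⟨u, Subgroup.subset_closure (Or.inl (Or.inl rfl)), ha.symm⟩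
        · exact ⟨v, Subgroup.subset_closure (Or.inl (Or.inr rfl)), ha.symm⟩
      obtain ⟨w, hw, hwe⟩ := hle hx
      have hk : E.proj (w⁻¹ * x) = 1 := by rw [map_mul, map_inv, hwe, inv_mul_cancel]
      simpa using mul_mem hw (Subgroup.subset_closure (k := gens) (Or.inr hk))
  have hcen : ∀ y ∈ gens, Commute y d := by
    rintro y ((hy | hy) | hy)
    · exact hy ▸ hu
    · exact (Set.mem_singleton_iff.1 hy) ▸ hv
    · exact (E.ker_central hy d).symm
  have hdl : d ^ l = 1 := by
    have hpow : ∀ n : ℕ, ⁅u ^ n, v⁆ = d ^ n := by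
      intro n
      induction n with
      | zero => rw [pow_zero, pow_zero, commutatorElement_one_left]
      | succ n ih =>
        rw [pow_succ', show ⁅u * u ^ n, v⁆ = u * ⁅u ^ n, v⁆ * u⁻¹ * d by
            rw [hd]; simp only [commutatorElement_def]; group,
          ih, (hu.pow_right n).eq, mul_inv_cancel_right, ← pow_succ]
    rw [← hpow, commutatorElement_eq_one_iff_mul_comm]
    exact (E.ker_central (by rw [map_pow, hal]) v).symm
  have hn : Subgroup.closure gens ≤ Subgroup.normalizer (Subgroup.zpowers d : Set X) := by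
    rw [Subgroup.closure_le]
    intro y hy
    rw [SetLike.mem_coe, Subgroup.mem_normalizer_iff]
    intro x
    constructor
    · intro hx
      obtain ⟨i, rfl⟩ := Subgroup.mem_zpowers_iff.1 hx
      rw [((hcen y hy).zpow_right i).eq, mul_inv_cancel_right]
      exact hx
    · intro hx
      obtain ⟨i, hi⟩ := Subgroup.mem_zpowers_iff.1 hx
      have h2 := ((hcen y hy).zpow_right i).eq
      rw [hi] at h2
      have h3 : y * x * y⁻¹ = x := by
        refine mul_left_cancel (a := y) ?_
        rw [h2]; group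
      rwa [h3] at hx
  have hg : ∀ x ∈ gens, ∀ y ∈ gens, ⁅x, y⁆ ∈ Subgroup.zpowers d := by
    have hone : ∀ {x y : X}, Commute x y → ⁅x, y⁆ ∈ Subgroup.zpowers d := fun {x y} h => by
      rw [commutatorElement_eq_one_iff_commute.2 h]; exact one_mem _
    rintro x ((rfl | rfl) | hx) y ((rfl | rfl) | hy)
    · exact hone (Commute.refl _)
    · exact Subgroup.mem_zpowers _
    · exact hone (E.ker_central hy x)
    · rw [← commutatorElement_inv]; exact inv_mem (Subgroup.mem_zpowers _)
    · exact hone (Commute.refl _)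
    · exact hone (E.ker_central hy x)
    · exact hone (E.ker_central hx y).symm
    · exact hone (E.ker_central hx y).symm
    · exact hone (E.ker_central hy x)
  intro z hz h1
  rw [← hgen] at hz
  have hle : ⁅Subgroup.closure gens, Subgroup.closure gens⁆ ≤ Subgroup.zpowers d := by
    rw [Subgroup.commutator_le]
    intro x hx y hy
    rw [← commutatorElement_inv]
    refine inv_mem (KilledTwo.Cert.comm_mem hn rfl (g := x) (fun a ha => ?_) y hy)
    rw [← commutatorElement_inv]
    exact inv_mem (KilledTwo.Cert.comm_mem hn rfl (g := a) (fun b hb => hg b hb a ha) x hx)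
  obtain ⟨i, rfl⟩ := Subgroup.mem_zpowers_iff.1 (hle hz)
  have := Fact.mk E.hl
  have hd1 : d ≠ 1 := fun h => hcl (by rw [← hdc, h, map_one])
  have ho : orderOf d = l := orderOf_eq_prime hdl hd1
  have hoc : orderOf c = l := orderOf_eq_prime (by rw [← hdc, ← map_pow, hdl, map_one]) hcl
  rw [map_zpow, hdc, ← orderOf_dvd_iff_zpow_eq_one, hoc, ← ho, orderOf_dvd_iff_zpow_eq_one] at h1
  exact h1

/-- The order of such a subgroup. -/
theorem card_closure_le [Finite G] {a b c : G} {n : ℕ} (hn : 0 < n) (ha : a ^ n = 1) (hb : b ^ n = 1)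
    (hc : c ^ n = 1) (hab : ⁅a, b⁆ = c) (hac : Commute a c) (hbc : Commute b c) :
    Nat.card (Subgroup.closure {a, b}) ≤ n * n * n ∧
      (c = 1 → Nat.card (Subgroup.closure {a, b}) ≤ n * n) := by
  set H := Subgroup.closure ({a, b} : Set G) with hHdef
  have hz : ∀ x : G, x ^ n = 1 → Nat.card (Subgroup.zpowers x) ≤ n := fun x hx => by
    rw [Nat.card_zpowers]
    exact Nat.le_of_dvd hn (orderOf_dvd_of_pow_eq_one hx)
  have hsup : ∀ K L : Subgroup G, L ≤ Subgroup.normalizer (K : Set G) →
      Nat.card (K ⊔ L : Subgroup G) ≤ Nat.card K * Nat.card L := by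
    intro K L hn
    rw [← Nat.card_prod]
    refine Nat.card_le_card_of_surjective (fun p => ⟨(p.1 : G) * p.2,
      mul_mem (Subgroup.mem_sup_left p.1.2) (Subgroup.mem_sup_right p.2.2)⟩) ?_
    rintro ⟨x, hx⟩
    rw [← SetLike.mem_coe, Subgroup.coe_mul_of_right_le_normalizer_left K L hn] at hx
    obtain ⟨y, hy, z, hz', rfl⟩ := hx
    exact ⟨(⟨y, hy⟩, ⟨z, hz'⟩), rfl⟩
  set N := Subgroup.zpowers c ⊔ Subgroup.zpowers b with hN
  have hcn : Subgroup.zpowers b ≤ Subgroup.normalizer (Subgroup.zpowers c : Set G) := by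
    rw [Subgroup.zpowers_le, Subgroup.mem_normalizer_iff]
    intro x
    constructor
    · intro hx
      obtain ⟨i, rfl⟩ := Subgroup.mem_zpowers_iff.1 hx
      rw [(hbc.zpow_right i).eq, mul_inv_cancel_right]
      exact hx
    · intro hx
      obtain ⟨i, hi⟩ := Subgroup.mem_zpowers_iff.1 hx
      have h2 := (hbc.zpow_right i).eq
      rw [hi] at h2
      have h3 : b * x * b⁻¹ = x := by
        refine mul_left_cancel (a := b) ?_
        rw [h2]; group
      rwa [h3] at hx
  have hbN : b ∈ N := Subgroup.mem_sup_right (Subgroup.mem_zpowers b)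
  have hcN : c ∈ N := Subgroup.mem_sup_left (Subgroup.mem_zpowers c)
  have haN : a ∈ Subgroup.normalizer (N : Set G) := by
    have hle : N.map (MulAut.conj a).toMonoidHom ≤ N := by
      rw [Subgroup.map_le_iff_le_comap, hN, sup_le_iff, Subgroup.zpowers_le, Subgroup.zpowers_le]
      refine ⟨?_, ?_⟩
      · show a * c * a⁻¹ ∈ N
        rw [hac.eq, mul_inv_cancel_right]
        exact hcN
      · show a * b * a⁻¹ ∈ N
        rw [show a * b * a⁻¹ = ⁅a, b⁆ * b by rw [commutatorElement_def]; group, hab]
        exact mul_mem hcN hbN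
    have heq := Subgroup.eq_of_le_of_card_ge hle
      (Nat.card_congr (N.equivMapOfInjective _ (MulAut.conj a).injective).toEquiv).le
    rw [Subgroup.mem_normalizer_iff]
    intro x
    constructor
    · intro hx
      rw [← heq]
      exact ⟨x, hx, rfl⟩
    · intro hx
      rw [← heq] at hx
      obtain ⟨w, hw, hwe⟩ := hx
      rwa [← (MulAut.conj a).injective hwe]
  have hHN : H ≤ N ⊔ Subgroup.zpowers a := (Subgroup.closure_le _).2 fun x hx => by
    rcases hx with hx | hx
    · rw [hx]; exact Subgroup.mem_sup_right (Subgroup.mem_zpowers a)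
    · rw [Set.mem_singleton_iff.1 hx]; exact Subgroup.mem_sup_left hbN
  have hNH : Nat.card H ≤ Nat.card N * n :=
    (Nat.card_mono (Set.toFinite _) hHN).trans ((hsup _ _ (Subgroup.zpowers_le.2 haN)).trans
      (Nat.mul_le_mul_left _ (hz a ha)))
  refine ⟨hNH.trans (Nat.mul_le_mul_right _
    ((hsup _ _ hcn).trans (Nat.mul_le_mul (hz c hc) (hz b hb)))), fun hc1 => ?_⟩
  refine hNH.trans (Nat.mul_le_mul_right _ ((hsup _ _ hcn).trans ?_))
  rw [hc1, Subgroup.zpowers_one_eq_bot, Subgroup.card_bot, one_mul]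
  exact hz b hb

end Cfsg.Agent.H95.KilledHeisenberg
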