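import Cfsg.Agent.H94.M22.Cor

/-!
The commutation pairing of a transferred cocycle on two commuting elements of order three is the
sum of the pairings over the cosets fixed by both.
-/

set_option autoImplicit false

namespace Cfsg.Agent.H95.FixedPair

open Cfsg.Agent.H94.M22
open scoped commutatorElement

/-- A sum over orbits of length three. -/
theorem sum_three_orbits {ι A : Type} [Fintype ι] [DecidableEq ι] [AddCommGroup A] (S : Finset ι)
    (σ τ : ι → ι) (f χ : ι → A) (hσS : ∀ i ∈ S, σ i ∈ S) (hσ3 : ∀ i, σ (σ (σ i)) = i)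
    (hfree : ∀ i ∈ S, σ i ≠ i) (hτS : ∀ i ∈ S, τ i ∈ S) (hτ : Function.Injective τ)
    (hcomm : ∀ i, τ (σ i) = σ (τ i)) (hχ : ∀ i ∈ S, χ (σ i) = χ i)
    (hf : ∀ i ∈ S, f i + f (σ i) + f (σ (σ i)) = χ (τ i) - χ i) : ∑ i ∈ S, f i = 0 := by
  set e := Fintype.equivFin ι
  set R := S.filter fun i => e i < e (σ i) ∧ e i < e (σ (σ i)) with hR
  have hne : ∀ i ∈ S, e i ≠ e (σ i) ∧ e i ≠ e (σ (σ i)) ∧ e (σ i) ≠ e (σ (σ i)) := fun i hi =>
    ⟨fun h => hfree i hi (e.injective h).symm,
      fun h => hfree i hi (((congrArg σ (e.injective h)).trans (hσ3 i))),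
      fun h => hfree _ (hσS i hi) (e.injective h).symm⟩
  have hmin : ∀ i ∈ S, i ∈ R ∨ σ i ∈ R ∨ σ (σ i) ∈ R := by
    intro i hi
    obtain ⟨h1, h2, h3⟩ := hne i hi
    simp only [hR, Finset.mem_filter, hi, hσS i hi, hσS _ (hσS i hi), hσ3, true_and]
    omega
  have huniq : ∀ i ∈ R, σ i ∉ R ∧ σ (σ i) ∉ R := by
    intro i hi
    simp only [hR, Finset.mem_filter, hσ3] at hi ⊢
    omega
  have hRS : ∀ i ∈ R, i ∈ S := fun i hi => (Finset.mem_filter.1 hi).1
  have hσinj : Function.Injective σ := fun a b h => by rw [← hσ3 a, h, hσ3]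
  have hS : S = R ∪ R.image σ ∪ R.image fun i => σ (σ i) := by
    ext i
    simp only [Finset.mem_union, Finset.mem_image]
    constructor
    · intro hi
      rcases hmin i hi with h | h | h
      · exact Or.inl (Or.inl h)
      · exact Or.inr ⟨_, h, hσ3 i⟩
      · exact Or.inl (Or.inr ⟨_, h, hσ3 i⟩)
    · rintro ((h | ⟨j, hj, rfl⟩) | ⟨j, hj, rfl⟩)
      · exact hRS i h
      · exact hσS _ (hRS j hj)
      · exact hσS _ (hσS _ (hRS j hj))
  have hd1 : Disjoint R (R.image σ) := by
    rw [Finset.disjoint_left]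
    intro i hi hi'
    obtain ⟨j, hj, rfl⟩ := Finset.mem_image.1 hi'
    exact (huniq j hj).1 hi
  have hd2 : Disjoint (R ∪ R.image σ) (R.image fun i => σ (σ i)) := by
    rw [Finset.disjoint_left]
    intro i hi hi'
    obtain ⟨j, hj, rfl⟩ := Finset.mem_image.1 hi'
    rcases Finset.mem_union.1 hi with h | h
    · exact (huniq j hj).2 h
    · obtain ⟨k, hk, hke⟩ := Finset.mem_image.1 h
      exact (huniq j hj).1 (hσinj hke ▸ hk)
  have hsum : ∑ i ∈ S, f i = ∑ i ∈ R, (χ (τ i) - χ i) := by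
    conv_lhs => rw [hS]
    rw [Finset.sum_union hd2, Finset.sum_union hd1, Finset.sum_image hσinj.injOn,
      Finset.sum_image (g := fun i => σ (σ i)) fun a _ b _ h => hσinj (hσinj h), ← Finset.sum_add_distrib, ← Finset.sum_add_distrib]
    exact Finset.sum_congr rfl fun i hi => hf i (hRS i hi)
  -- the representative of the orbit of a point
  set μ : ι → ι := fun i => if i ∈ R then i else if σ i ∈ R then σ i else σ (σ i) with hμdef
  have hμ : ∀ i ∈ S, μ i ∈ R ∧ χ (μ i) = χ i ∧ (μ i = i ∨ μ i = σ i ∨ μ i = σ (σ i)) := by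
    intro i hi
    by_cases h1 : i ∈ R
    · simp [hμdef, h1]
    by_cases h2 : σ i ∈ R
    · simp [hμdef, h1, h2, hχ i hi]
    · have h3 : σ (σ i) ∈ R := by
        rcases hmin i hi with h | h | h
        · exact absurd h h1
        · exact absurd h h2
        · exact h
      simp [hμdef, h1, h2, h3, hχ i hi, hχ _ (hσS i hi)]
  have hmaps : ∀ i ∈ R, μ (τ i) ∈ R := fun i hi => (hμ _ (hτS i (hRS i hi))).1
  have hinj : Set.InjOn (fun i => μ (τ i)) R := by
    intro i hi j hj h
    have h' : μ (τ i) = μ (τ j) := h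
    obtain ⟨-, -, a⟩ := hμ _ (hτS i (hRS i hi))
    obtain ⟨-, -, b⟩ := hμ _ (hτS j (hRS j hj))
    have key : i = j ∨ i = σ j ∨ i = σ (σ j) := by
      rcases a with a | a | a <;> rcases b with b | b | b <;>
        (rw [a, b] at h'; try simp only [← hcomm] at h'
         have h2 := hτ h')
      · exact Or.inl h2
      · exact Or.inr (Or.inl h2)
      · exact Or.inr (Or.inr h2)
      · exact Or.inr (Or.inr (by rw [← h2, hσ3]))
      · exact Or.inl (hσinj h2)
      · exact Or.inr (Or.inl (hσinj h2))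
      · exact Or.inr (Or.inl (by rw [← h2, hσ3]))
      · exact Or.inr (Or.inr (by rw [← hσ3 i, h2]))
      · exact Or.inl (hσinj (hσinj h2))
    rcases key with rfl | rfl | rfl
    · rfl
    · exact absurd hi (huniq j hj).1
    · exact absurd hi (huniq j hj).2
  rw [hsum, Finset.sum_sub_distrib, sub_eq_zero]
  refine Finset.sum_nbij (fun i => μ (τ i)) hmaps hinj ?_ fun i hi =>
    ((hμ _ (hτS i (hRS i hi))).2.1).symm
  intro j hj
  obtain ⟨i, hi, e'⟩ := Finset.surj_on_of_inj_on_of_card_le (fun i _ => μ (τ i)) hmaps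
    (fun a b ha hb h => hinj ha hb h) le_rfl j hj
  exact ⟨i, hi, e'.symm⟩

variable {G : Type} [Group G] {A : Type} [AddCommGroup A]

/-- The commutation pairing of a cochain. -/
def delta (c : G → G → A) (a b : G) : A := c a b - c b a

section Ext

variable {H : Subgroup G} {c : G → G → A} {hc : IsCoc H c}

theorem incl_inj : Function.Injective (CExt.incl (hc := hc)) := fun _ _ h =>
  CExt.incl_bijective.1 (Subtype.ext h)

theorem incl_comm (a : Multiplicative A) (u : CExt hc) : u * CExt.incl a = CExt.incl a * u :=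
  Subgroup.mem_center_iff.1 (CExt.ker_le_center (CExt.incl_mem_ker a)) u

theorem exists_incl {u w : CExt hc} (h : u.g = w.g) :
    ∃ a, u = CExt.incl (hc := hc) a * w := by
  obtain ⟨a, ha⟩ := CExt.incl_bijective.2
    (⟨u * w⁻¹, show (u * w⁻¹).g = 1 by show u.g * w.g⁻¹ = 1; rw [h, mul_inv_cancel]⟩ :
      (CExt.proj (hc := hc)).ker)
  refine ⟨a, ?_⟩
  rw [show CExt.incl (hc := hc) a = u * w⁻¹ from congrArg Subtype.val ha, inv_mul_cancel_right]

theorem commutator_eq_of_g {u v : CExt hc} (h : u.g * v.g = v.g * u.g) :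
    ⁅u, v⁆ = CExt.incl (Multiplicative.ofAdd (delta c u.g v.g)) := by
  obtain ⟨a, ha⟩ := exists_incl (u := u) (w := ⟨0, u.g⟩) rfl
  obtain ⟨b, hb⟩ := exists_incl (u := v) (w := ⟨0, v.g⟩) rfl
  have key : ∀ (z z' x y : CExt hc), (∀ w, w * z = z * w) → (∀ w, w * z' = z' * w) →
      ⁅z * x, z' * y⁆ = ⁅x, y⁆ := by
    intro z z' x y hz hz'
    simp only [commutatorElement_def]
    calc z * x * (z' * y) * (z * x)⁻¹ * (z' * y)⁻¹
        = z * (x * z') * y * x⁻¹ * z⁻¹ * y⁻¹ * z'⁻¹ := by group
      _ = (z * z') * (x * y * x⁻¹ * z⁻¹) * y⁻¹ * z'⁻¹ := by rw [hz' x]; group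
      _ = x * y * x⁻¹ * y⁻¹ := by
        have e : ∀ w, w * z⁻¹ = z⁻¹ * w := fun w => (Commute.inv_right (hz w)).eq
        rw [e (x * y * x⁻¹)]
        calc z * z' * (z⁻¹ * (x * y * x⁻¹)) * y⁻¹ * z'⁻¹
            = z * (z' * z⁻¹) * (x * y * x⁻¹ * y⁻¹) * z'⁻¹ := by group
          _ = z' * (x * y * x⁻¹ * y⁻¹) * z'⁻¹ := by rw [e z']; group
          _ = _ := by rw [← hz' (x * y * x⁻¹ * y⁻¹)]; group
  calc ⁅u, v⁆ = ⁅CExt.incl a * (⟨0, u.g⟩ : CExt hc), CExt.incl b * ⟨0, v.g⟩⁆ :=
        congrArg₂ (fun s t => ⁅s, t⁆) ha hb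
    _ = ⁅(⟨0, u.g⟩ : CExt hc), ⟨0, v.g⟩⁆ := key _ _ _ _ (incl_comm a) (incl_comm b)
    _ = _ := CExt.commutator_eq h

theorem delta_conj (hc : IsCoc H c) {a b p : G} (ha : a ∈ H) (hb : b ∈ H) (hp : p ∈ H)
    (hab : a * b = b * a) : delta c (p * a * p⁻¹) (p * b * p⁻¹) = delta c a b := by
  set P : CExt hc := ⟨0, ⟨p, hp⟩⟩
  set X : CExt hc := ⟨0, ⟨a, ha⟩⟩
  set Y : CExt hc := ⟨0, ⟨b, hb⟩⟩
  have h1 := commutator_eq_of_g (u := X) (v := Y) (Subtype.ext hab)
  have h2 := commutator_eq_of_g (u := P * X * P⁻¹) (v := P * Y * P⁻¹) (Subtype.ext (by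
    show p * a * p⁻¹ * (p * b * p⁻¹) = p * b * p⁻¹ * (p * a * p⁻¹)
    calc _ = p * (a * b) * p⁻¹ := by group
      _ = _ := by rw [hab]; group))
  rw [show ⁅P * X * P⁻¹, P * Y * P⁻¹⁆ = P * ⁅X, Y⁆ * P⁻¹ by
    simp only [commutatorElement_def]; group, h1, incl_comm, mul_inv_cancel_right] at h2
  exact (Multiplicative.ofAdd.injective (incl_inj h2)).symm

end Ext

section Trans

variable {ι : Type} [Nonempty ι] {H : Subgroup G} {T : ι → G} {c : G → G → A}

theorem cidx_csec_mul (hT : IsTrans H ⊤ T) (u v : G) (i : ι) :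
    cidx H T (u * v * T i) = cidx H T (u * T (cidx H T (v * T i))) ∧
      csec H T (u * v) i = csec H T u (cidx H T (v * T i)) * csec H T v i := by
  refine csec_eq hT (mul_mem (csec_mem hT trivial _) (csec_mem hT trivial _)) ?_
  simp only [csec]
  group

theorem cidx_one (hT : IsTrans H ⊤ T) (i : ι) : cidx H T (1 * T i) = i ∧ csec H T 1 i = 1 :=
  csec_eq hT H.one_mem (by group)

/-- The action on the cosets. -/
noncomputable abbrev act (H : Subgroup G) (T : ι → G) (u : G) (i : ι) : ι := cidx H T (u * T i)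

theorem act_mul (hT : IsTrans H ⊤ T) (u v : G) (i : ι) :
    act H T (u * v) i = act H T u (act H T v i) := (cidx_csec_mul hT u v i).1

theorem csec_mul (hT : IsTrans H ⊤ T) (u v : G) (i : ι) :
    csec H T (u * v) i = csec H T u (act H T v i) * csec H T v i := (cidx_csec_mul hT u v i).2

theorem act_injective (hT : IsTrans H ⊤ T) (u : G) : Function.Injective (act H T u) :=
  Function.LeftInverse.injective (g := act H T u⁻¹) fun i => by
    rw [← act_mul hT, inv_mul_cancel]; exact (cidx_one hT i).1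

theorem act_three (hT : IsTrans H ⊤ T) {u : G} (hu : u * u * u = 1) (i : ι) :
    act H T u (act H T u (act H T u i)) = i := by
  rw [← act_mul hT, ← act_mul hT, hu]
  exact (cidx_one hT i).1

theorem act_comm (hT : IsTrans H ⊤ T) {u v : G} (h : u * v = v * u) (i : ι) :
    act H T u (act H T v i) = act H T v (act H T u i) := by
  rw [← act_mul hT, ← act_mul hT, h]

/-- The difference of the two orders in the summand of a coset. -/
noncomputable def dd (H : Subgroup G) (T : ι → G) (c : G → G → A) (u v : G) (i : ι) : A :=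
  c (csec H T u (act H T v i)) (csec H T v i) - c (csec H T v (act H T u i)) (csec H T u i)

theorem dd_swap (u v : G) (i : ι) : dd H T c v u i = -dd H T c u v i := by
  rw [dd, dd, neg_sub]

/-- The lift of a section. -/
noncomputable abbrev lft (hT : IsTrans H ⊤ T) (hc : IsCoc H c) (u : G) (i : ι) : CExt hc :=
  ⟨0, ⟨csec H T u i, csec_mem hT trivial i⟩⟩

theorem lft_comm (hT : IsTrans H ⊤ T) (hc : IsCoc H c) {u v : G} (h : u * v = v * u) (i : ι) :
    lft hT hc u (act H T v i) * lft hT hc v i =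
      CExt.incl (Multiplicative.ofAdd (dd H T c u v i)) *
        (lft hT hc v (act H T u i) * lft hT hc u i) := by
  have hg : csec H T u (act H T v i) * csec H T v i =
      csec H T v (act H T u i) * csec H T u i := by
    rw [← (cidx_csec_mul hT u v i).2, h, (cidx_csec_mul hT v u i).2]
  refine CExt.ext' ?_ (Subtype.ext ?_)
  · show (0 : A) + 0 + c (csec H T u (act H T v i)) (csec H T v i) =
      dd H T c u v i - c 1 1 + (0 + 0 + c (csec H T v (act H T u i)) (csec H T u i)) +
        c 1 ((⟨csec H T v (act H T u i), csec_mem hT trivial _⟩ * ⟨csec H T u i,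
          csec_mem hT trivial _⟩ : H) : G)
    rw [CExt.one_left hc, dd]
    abel
  · show csec H T u (act H T v i) * csec H T v i =
      1 * (csec H T v (act H T u i) * csec H T u i)
    rw [one_mul, hg]

/-- The lift of a cube. -/
theorem exists_cube (hT : IsTrans H ⊤ T) (hc : IsCoc H c) {u : G} (hu : u * u * u = 1) (i : ι) :
    ∃ a, lft hT hc u (act H T u (act H T u i)) * lft hT hc u (act H T u i) * lft hT hc u i =
      CExt.incl (Multiplicative.ofAdd a) := by
  obtain ⟨a, ha⟩ := exists_incl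
    (u := lft hT hc u (act H T u (act H T u i)) * lft hT hc u (act H T u i) * lft hT hc u i)
    (w := (1 : CExt hc)) (Subtype.ext (by
      show csec H T u _ * csec H T u _ * csec H T u i = 1
      rw [← csec_mul hT, ← csec_mul hT, hu, (cidx_one hT i).2]))
  exact ⟨a.toAdd, by rw [ha, mul_one]; rfl⟩

theorem orbit_step (hT : IsTrans H ⊤ T) (hc : IsCoc H c) {u v : G} (hu : u * u * u = 1)
    (h : u * v = v * u) : ∃ χ : ι → A, (∀ i, χ (act H T u i) = χ i) ∧ ∀ i,
      dd H T c u v i + dd H T c u v (act H T u i) + dd H T c u v (act H T u (act H T u i)) =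
        χ (act H T v i) - χ i := by
  choose χ hχ using exists_cube hT hc hu
  refine ⟨χ, fun i => ?_, fun i => ?_⟩
  · have h1 := hχ (act H T u i)
    rw [act_three hT hu] at h1
    have h2 : lft hT hc u i * lft hT hc u (act H T u (act H T u i)) * lft hT hc u (act H T u i) =
        lft hT hc u i * CExt.incl (Multiplicative.ofAdd (χ i)) * (lft hT hc u i)⁻¹ := by
      rw [← hχ i]; group
    rw [h2, incl_comm, mul_inv_cancel_right] at h1
    exact (Multiplicative.ofAdd.injective (incl_inj h1)).symm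
  · have e : ∀ j, lft hT hc u (act H T v j) = CExt.incl (Multiplicative.ofAdd (dd H T c u v j)) *
        (lft hT hc v (act H T u j) * lft hT hc u j * (lft hT hc v j)⁻¹) := fun j => by
      rw [← mul_assoc, ← lft_comm hT hc h j, mul_inv_cancel_right]
    have h1 := hχ (act H T v i)
    rw [act_comm hT h i, act_comm hT h (act H T u i), e, e, e] at h1
    set d₀ := CExt.incl (hc := hc) (Multiplicative.ofAdd (dd H T c u v i))
    set d₁ := CExt.incl (hc := hc) (Multiplicative.ofAdd (dd H T c u v (act H T u i)))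
    set d₂ := CExt.incl (hc := hc) (Multiplicative.ofAdd (dd H T c u v (act H T u (act H T u i))))
    have h2 : CExt.incl (hc := hc) (Multiplicative.ofAdd (χ (act H T v i))) =
        d₂ * d₁ * d₀ * CExt.incl (Multiplicative.ofAdd (χ i)) := by
      rw [← h1, act_three hT hu]
      set Y₀ := lft hT hc v i
      set Y₁ := lft hT hc v (act H T u i)
      set Y₂ := lft hT hc v (act H T u (act H T u i))
      set X₀ := lft hT hc u i
      set X₁ := lft hT hc u (act H T u i)
      set X₂ := lft hT hc u (act H T u (act H T u i))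
      have c1 : ∀ a : CExt hc, a * d₁ = d₁ * a := incl_comm _
      have c0 : ∀ a : CExt hc, a * d₀ = d₀ * a := incl_comm _
      calc d₂ * (Y₀ * X₂ * Y₂⁻¹) * (d₁ * (Y₂ * X₁ * Y₁⁻¹)) * (d₀ * (Y₁ * X₀ * Y₀⁻¹))
          = d₂ * ((Y₀ * X₂ * Y₂⁻¹) * d₁) * ((Y₂ * X₁ * Y₁⁻¹) * d₀) * (Y₁ * X₀ * Y₀⁻¹) := by group
        _ = d₂ * d₁ * ((Y₀ * X₂ * Y₂⁻¹) * d₀) * (Y₂ * X₁ * Y₁⁻¹) * (Y₁ * X₀ * Y₀⁻¹) := by
          rw [c1, c0]; group
        _ = d₂ * d₁ * d₀ * (Y₀ * (X₂ * X₁ * X₀) * Y₀⁻¹) := by rw [c0]; group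
        _ = _ := by rw [hχ i, incl_comm _ Y₀, mul_inv_cancel_right]
    simp only [d₀, d₁, d₂, ← map_mul, ← ofAdd_add] at h2
    rw [Multiplicative.ofAdd.injective (incl_inj h2)]
    abel

/-- The pairing of the transfer is a sum over the common fixed cosets. -/
theorem cor_pairing [Fintype ι] [DecidableEq ι] (hT : IsTrans H ⊤ T) (hc : IsCoc H c) {u v : G}
    (hu : u * u * u = 1) (hv : v * v * v = 1) (h : u * v = v * u) :
    cor H T c u v - cor H T c v u =
      ∑ i ∈ Finset.univ.filter (fun i => act H T u i = i ∧ act H T v i = i),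
        delta c (csec H T u i) (csec H T v i) := by
  have h0 : cor H T c u v - cor H T c v u = ∑ i, dd H T c u v i := by
    rw [cor, cor, ← Finset.sum_sub_distrib]
    rfl
  rw [h0, ← Finset.sum_filter_add_sum_filter_not Finset.univ
    (fun i => act H T u i = i ∧ act H T v i = i)]
  set S1 := Finset.univ.filter fun i => act H T u i ≠ i
  set S2 := Finset.univ.filter fun i => act H T u i = i ∧ act H T v i ≠ i
  have hsplit : Finset.univ.filter (fun i => ¬(act H T u i = i ∧ act H T v i = i)) = S1 ∪ S2 := by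
    ext i
    simp only [S1, S2, Finset.mem_union, Finset.mem_filter, Finset.mem_univ, true_and]
    tauto
  have hdis : Disjoint S1 S2 := by
    rw [Finset.disjoint_left]
    simp [S1, S2]
    tauto
  obtain ⟨χ, hχ, hstep⟩ := orbit_step hT hc hu h
  obtain ⟨χ', -, hstep'⟩ := orbit_step hT hc hv h.symm
  have z1 : ∑ i ∈ S1, dd H T c u v i = 0 := by
    refine sum_three_orbits S1 (act H T u) (act H T v) _ χ ?_ (act_three hT hu) ?_ ?_
      (act_injective hT v) (act_comm hT h.symm) (fun i _ => hχ i) (fun i _ => hstep i)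
    · intro i hi
      simp only [S1, Finset.mem_filter, Finset.mem_univ, true_and] at hi ⊢
      exact fun e => hi (act_injective hT u e)
    · intro i hi
      simpa [S1] using hi
    · intro i hi
      simp only [S1, Finset.mem_filter, Finset.mem_univ, true_and] at hi ⊢
      rw [act_comm hT h]
      exact fun e => hi (act_injective hT v e)
  have z2 : ∑ i ∈ S2, dd H T c u v i = 0 := by
    refine sum_three_orbits S2 (act H T v) id _ (fun _ => 0) ?_ (act_three hT hv) ?_ (fun i hi => hi)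
      Function.injective_id (fun _ => rfl) (fun _ _ => rfl) ?_
    · intro i hi
      simp only [S2, Finset.mem_filter, Finset.mem_univ, true_and] at hi ⊢
      exact ⟨by rw [act_comm hT h, hi.1], fun e => hi.2 (act_injective hT v e)⟩
    · intro i hi
      simp only [S2, Finset.mem_filter, Finset.mem_univ, true_and] at hi
      exact hi.2
    · intro i hi
      simp only [S2, Finset.mem_filter, Finset.mem_univ, true_and] at hi
      have := hstep' i
      simp only [dd_swap u v, hi.1, sub_self] at this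
      rw [sub_self, ← neg_eq_zero, ← this]
      abel
  rw [hsplit, Finset.sum_union hdis, z1, z2, add_zero, add_zero]
  refine Finset.sum_congr rfl fun i hi => ?_
  simp only [Finset.mem_filter, Finset.mem_univ, true_and] at hi
  rw [dd, hi.1, hi.2]
  rfl

/-- The summand of a fixed coset does not depend on the representative. -/
theorem fixed_of_rep (hT : IsTrans H ⊤ T) (hc : IsCoc H c) {u v g : G} (h : u * v = v * u)
    (hu : g⁻¹ * u * g ∈ H) (hv : g⁻¹ * v * g ∈ H) :
    (act H T u (cidx H T g) = cidx H T g ∧ act H T v (cidx H T g) = cidx H T g) ∧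
      delta c (csec H T u (cidx H T g)) (csec H T v (cidx H T g)) =
        delta c (g⁻¹ * u * g) (g⁻¹ * v * g) := by
  set i := cidx H T g
  set p := (T i)⁻¹ * g
  have hp : p ∈ H := cidx_spec hT (Subgroup.mem_top g)
  have e : ∀ w, g⁻¹ * w * g ∈ H → act H T w i = i ∧ csec H T w i = p * (g⁻¹ * w * g) * p⁻¹ := by
    intro w hw
    refine csec_eq hT (mul_mem (mul_mem hp hw) (inv_mem hp)) ?_
    simp only [p]
    group
  refine ⟨⟨(e u hu).1, (e v hv).1⟩, ?_⟩
  rw [(e u hu).2, (e v hv).2]
  refine delta_conj hc hu hv hp ?_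
  calc g⁻¹ * u * g * (g⁻¹ * v * g) = g⁻¹ * (u * v) * g := by group
    _ = _ := by rw [h]; group

theorem conj_mem_of_fixed (hT : IsTrans H ⊤ T) {u : G} {i : ι} (h : act H T u i = i) :
    (T i)⁻¹ * u * T i ∈ H := by
  have := cidx_spec hT (Subgroup.mem_top (u * T i))
  rw [show cidx H T (u * T i) = i from h] at this
  rwa [mul_assoc]

end Trans

end Cfsg.Agent.H95.FixedPair
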