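import Cfsg.Agent.H95.Transfer.FixedPair

/-!
A split extension of an elementary abelian group of order 81 by one of order nine inside a group,
with a cocycle on it.
-/

set_option autoImplicit false

namespace Cfsg.Agent.H95.SplitModel

open Cfsg.Agent.H94.M22 Matrix

/-- Vectors. -/
abbrev Vec : Type := Fin 4 → ZMod 3

/-- Elements of the model. -/
abbrev El : Type := Vec × ZMod 3 × ZMod 3

/-- The action of the quotient, the mixed part of a cocycle and its coefficient. -/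
structure Data where
  /-- The matrices. -/
  M : ZMod 3 → ZMod 3 → Matrix (Fin 4) (Fin 4) (ZMod 3)
  /-- The linear forms. -/
  L : ZMod 3 → ZMod 3 → Vec
  /-- The coefficient of the quotient part. -/
  κ : ZMod 3

namespace Data

variable (D : Data)

/-- The identities of a datum. -/
def Valid : Prop :=
  D.M 0 0 = 1 ∧
    ∀ i j i' j', D.M (i + i') (j + j') = D.M i j * D.M i' j' ∧
      D.L (i + i') (j + j') = D.L i' j' + D.L i j ᵥ* D.M i' j'

instance : Decidable D.Valid := inferInstanceAs (Decidable (_ ∧ _))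

/-- The multiplication. -/
def mulEl (a b : El) : El := (a.1 + D.M a.2.1 a.2.2 *ᵥ b.1, a.2.1 + b.2.1, a.2.2 + b.2.2)

/-- The cocycle. -/
def coc (a b : El) : ZMod 3 := D.L a.2.1 a.2.2 ⬝ᵥ b.1 + D.κ * a.2.2 * b.2.1

theorem coc_spec (hD : D.Valid) (a b c : El) :
    D.coc a b + D.coc (D.mulEl a b) c = D.coc b c + D.coc a (D.mulEl b c) := by
  simp only [coc, mulEl, (hD.2 a.2.1 a.2.2 b.2.1 b.2.2).2, dotProduct_add, add_dotProduct,
    dotProduct_mulVec]
  ring

end Data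

section Real

variable {G : Type} [Group G]

/-- The power with exponent modulo three. -/
def zp (g : G) (a : ZMod 3) : G := g ^ a.val

theorem zp_add {g : G} (hg : g ^ 3 = 1) (a b : ZMod 3) : zp g (a + b) = zp g a * zp g b := by
  rw [zp, zp, zp, ← pow_add, ZMod.val_add, ← pow_mod_orderOf g (a.val + b.val),
    ← pow_mod_orderOf g ((a.val + b.val) % 3), Nat.mod_mod_of_dvd _ (orderOf_dvd_of_pow_eq_one hg)]

theorem zp_zero (g : G) : zp g 0 = 1 := pow_zero g

theorem zp_one (g : G) : zp g 1 = g := pow_one g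

/-- The generators of a realisation and their relations. -/
structure Real (D : Data) (G : Type) [Group G] where
  /-- The generators of the normal part. -/
  b : Fin 4 → G
  /-- The first generator of the complement. -/
  r : G
  /-- The second generator of the complement. -/
  s : G
  hb : ∀ k, b k ^ 3 = 1
  hbb : ∀ k l, Commute (b k) (b l)
  hr : r ^ 3 = 1
  hs : s ^ 3 = 1
  hrs : Commute r s
  hconj_r : ∀ k, r * b k * r⁻¹ = zp (b 0) (D.M 1 0 0 k) * zp (b 1) (D.M 1 0 1 k) *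
    zp (b 2) (D.M 1 0 2 k) * zp (b 3) (D.M 1 0 3 k)
  hconj_s : ∀ k, s * b k * s⁻¹ = zp (b 0) (D.M 0 1 0 k) * zp (b 1) (D.M 0 1 1 k) *
    zp (b 2) (D.M 0 1 2 k) * zp (b 3) (D.M 0 1 3 k)

namespace Real

variable {D : Data} (R : Real D G)

/-- The normal part. -/
def fV (v : Vec) : G := zp (R.b 0) (v 0) * zp (R.b 1) (v 1) * zp (R.b 2) (v 2) * zp (R.b 3) (v 3)

theorem comm_zp (k l : Fin 4) (a c : ZMod 3) : Commute (zp (R.b k) a) (zp (R.b l) c) :=
  (R.hbb k l).pow_pow _ _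

theorem fV_add (v w : Vec) : R.fV (v + w) = R.fV v * R.fV w := by
  simp only [fV, Pi.add_apply, zp_add (R.hb _)]
  set a0 := zp (R.b 0) (v 0)
  set a1 := zp (R.b 1) (v 1)
  set a2 := zp (R.b 2) (v 2)
  set a3 := zp (R.b 3) (v 3)
  set c0 := zp (R.b 0) (w 0) with h0
  set c1 := zp (R.b 1) (w 1) with h1
  set c2 := zp (R.b 2) (w 2) with h2
  set c3 := zp (R.b 3) (w 3) with h3
  have e1 : Commute c0 (a1 * a2 * a3) :=
    ((R.comm_zp 0 1 _ _).mul_right (R.comm_zp 0 2 _ _)).mul_right (R.comm_zp 0 3 _ _)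
  have e2 : Commute c1 (a2 * a3) := (R.comm_zp 1 2 _ _).mul_right (R.comm_zp 1 3 _ _)
  have e3 : Commute c2 a3 := R.comm_zp 2 3 _ _
  calc a0 * c0 * (a1 * c1) * (a2 * c2) * (a3 * c3)
      = a0 * c0 * a1 * c1 * a2 * (c2 * a3) * c3 := by simp only [mul_assoc]
    _ = a0 * c0 * a1 * (c1 * (a2 * a3)) * c2 * c3 := by rw [e3.eq]; simp only [mul_assoc]
    _ = a0 * (c0 * (a1 * a2 * a3)) * c1 * c2 * c3 := by rw [e2.eq]; simp only [mul_assoc]
    _ = _ := by rw [e1.eq]; simp only [mul_assoc]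

theorem fV_zero : R.fV 0 = 1 := by simp [fV, zp_zero]

theorem fV_zpow (v : Vec) (a : ZMod 3) : zp (R.fV v) a = R.fV (a • v) := by
  have h : ∀ n : ℕ, R.fV v ^ n = R.fV (n • v) := by
    intro n
    induction n with
    | zero => rw [pow_zero, zero_smul, fV_zero]
    | succ n ih => rw [pow_succ, ih, succ_nsmul, fV_add]
  rw [zp, h, ← Nat.cast_smul_eq_nsmul (ZMod 3), ZMod.natCast_zmod_val]

theorem conj_fV {g : G} {M : Matrix (Fin 4) (Fin 4) (ZMod 3)}
    (h : ∀ k, g * R.b k * g⁻¹ = R.fV (fun l => M l k)) (v : Vec) :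
    g * R.fV v * g⁻¹ = R.fV (M *ᵥ v) := by
  have e : ∀ k a, g * zp (R.b k) a * g⁻¹ = R.fV (a • fun l => M l k) := fun k a => by
    rw [← R.fV_zpow, zp, zp, ← conj_pow, h]
  calc g * R.fV v * g⁻¹ = (g * zp (R.b 0) (v 0) * g⁻¹) * (g * zp (R.b 1) (v 1) * g⁻¹) *
        (g * zp (R.b 2) (v 2) * g⁻¹) * (g * zp (R.b 3) (v 3) * g⁻¹) := by rw [fV]; group
    _ = _ := by
      rw [e, e, e, e, ← R.fV_add, ← R.fV_add, ← R.fV_add]
      congr 1
      funext l
      simp [mulVec, dotProduct, Fin.sum_univ_four, mul_comm]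

/-- The complement. -/
def fQ (i j : ZMod 3) : G := zp R.r i * zp R.s j

theorem fQ_add (i j i' j' : ZMod 3) : R.fQ (i + i') (j + j') = R.fQ i j * R.fQ i' j' := by
  simp only [fQ, zp_add R.hr, zp_add R.hs]
  have h : Commute (zp R.r i') (zp R.s j) := R.hrs.pow_pow _ _
  calc zp R.r i * zp R.r i' * (zp R.s j * zp R.s j')
      = zp R.r i * (zp R.r i' * zp R.s j) * zp R.s j' := by simp only [mul_assoc]
    _ = _ := by rw [h.eq]; simp only [mul_assoc]

theorem fQ_zero : R.fQ 0 0 = 1 := by simp [fQ, zp_zero]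

theorem conj_fQ (hD : D.Valid) (i j : ZMod 3) (v : Vec) :
    R.fQ i j * R.fV v * (R.fQ i j)⁻¹ = R.fV (D.M i j *ᵥ v) := by
  have step : ∀ g h (M N : Matrix (Fin 4) (Fin 4) (ZMod 3)),
      (∀ v, g * R.fV v * g⁻¹ = R.fV (M *ᵥ v)) → (∀ v, h * R.fV v * h⁻¹ = R.fV (N *ᵥ v)) →
      ∀ v, g * h * R.fV v * (g * h)⁻¹ = R.fV ((M * N) *ᵥ v) := by
    intro g h M N hg hh v
    rw [← mulVec_mulVec, ← hg, ← hh]
    group
  have h1 : ∀ v, R.fQ 1 0 * R.fV v * (R.fQ 1 0)⁻¹ = R.fV (D.M 1 0 *ᵥ v) := by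
    rw [fQ, zp_one, zp_zero, mul_one]
    exact R.conj_fV R.hconj_r
  have h2 : ∀ v, R.fQ 0 1 * R.fV v * (R.fQ 0 1)⁻¹ = R.fV (D.M 0 1 *ᵥ v) := by
    rw [fQ, zp_one, zp_zero, one_mul]
    exact R.conj_fV R.hconj_s
  have h0 : ∀ v, R.fQ 0 0 * R.fV v * (R.fQ 0 0)⁻¹ = R.fV (D.M 0 0 *ᵥ v) := fun v => by
    rw [R.fQ_zero, hD.1, one_mulVec]; group
  have hi : ∀ i v, R.fQ i 0 * R.fV v * (R.fQ i 0)⁻¹ = R.fV (D.M i 0 *ᵥ v) := by
    intro i
    have key : ∀ n : ℕ, ∀ v, R.fQ (n : ZMod 3) 0 * R.fV v * (R.fQ (n : ZMod 3) 0)⁻¹ =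
        R.fV (D.M (n : ZMod 3) 0 *ᵥ v) := by
      intro n
      induction n with
      | zero => rw [Nat.cast_zero]; exact h0
      | succ n ih =>
        intro v
        rw [Nat.cast_succ, show (0 : ZMod 3) = 0 + 0 from (add_zero _).symm, R.fQ_add,
          (hD.2 _ _ _ _).1]
        exact step _ _ _ _ ih h1 v
    rw [← ZMod.natCast_zmod_val i]
    exact key _
  have hj : ∀ n : ℕ, ∀ v, R.fQ i (n : ZMod 3) * R.fV v * (R.fQ i (n : ZMod 3))⁻¹ =
      R.fV (D.M i (n : ZMod 3) *ᵥ v) := by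
    intro n
    induction n with
    | zero => rw [Nat.cast_zero]; exact hi i
    | succ n ih =>
      intro v
      rw [Nat.cast_succ, show i = i + 0 from (add_zero _).symm, R.fQ_add, (hD.2 _ _ _ _).1]
      exact step _ _ _ _ ih h2 v
  rw [← ZMod.natCast_zmod_val j]
  exact hj _ v

/-- The map from the model. -/
def psi (a : El) : G := R.fV a.1 * R.fQ a.2.1 a.2.2

theorem psi_mul (hD : D.Valid) (a b : El) : R.psi (D.mulEl a b) = R.psi a * R.psi b := by
  simp only [psi, Data.mulEl, R.fV_add, R.fQ_add, ← R.conj_fQ hD]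
  group

theorem psi_zero : R.psi (0, 0, 0) = 1 := by simp [psi, fV_zero, fQ_zero]

/-- The subgroup. -/
def sub (hD : D.Valid) : Subgroup G where
  carrier := Set.range R.psi
  one_mem' := ⟨_, R.psi_zero⟩
  mul_mem' := by
    rintro _ _ ⟨a, rfl⟩ ⟨b, rfl⟩
    exact ⟨_, R.psi_mul hD a b⟩
  inv_mem' := by
    rintro _ ⟨a, rfl⟩
    refine ⟨(-(D.M (-a.2.1) (-a.2.2) *ᵥ a.1), -a.2.1, -a.2.2), eq_inv_of_mul_eq_one_left ?_⟩
    rw [← R.psi_mul hD]
    simp [Data.mulEl, R.psi_zero]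

theorem psi_mem (hD : D.Valid) (a : El) : R.psi a ∈ R.sub hD := ⟨a, rfl⟩

theorem mem_b (hD : D.Valid) (k : Fin 4) : R.b k ∈ R.sub hD :=
  ⟨(Pi.single k 1, 0, 0), by fin_cases k <;> simp [psi, fV, fQ, zp_zero, zp_one]⟩

theorem mem_r (hD : D.Valid) : R.r ∈ R.sub hD :=
  ⟨(0, 1, 0), by simp [psi, fV_zero, fQ, zp_zero, zp_one]⟩

theorem mem_s (hD : D.Valid) : R.s ∈ R.sub hD :=
  ⟨(0, 0, 1), by simp [psi, fV_zero, fQ, zp_zero, zp_one]⟩

theorem card_El : Nat.card El = 729 := by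
  simp [El, Vec, Nat.card_prod, Nat.card_fun, Nat.card_zmod]

theorem card_sub (hD : D.Valid) (h : 729 ≤ Nat.card (R.sub hD)) :
    Nat.card (R.sub hD) = 729 ∧ Function.Injective R.psi := by
  let f : El → R.sub hD := fun a => ⟨R.psi a, a, rfl⟩
  have hs : Function.Surjective f := fun ⟨x, a, ha⟩ => ⟨a, Subtype.ext ha⟩
  have hb : Function.Bijective f := hs.bijective_of_nat_card_le (by rw [card_El]; exact h)
  exact ⟨by rw [← Nat.card_eq_of_bijective f hb, card_El],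
    fun a b e => hb.1 (Subtype.ext e)⟩

/-- The cocycle on the subgroup. -/
noncomputable def coc (g h : G) : ZMod 3 :=
  D.coc (Function.invFun R.psi g) (Function.invFun R.psi h)

theorem coc_psi (hinj : Function.Injective R.psi) (a b : El) :
    R.coc (R.psi a) (R.psi b) = D.coc a b := by
  rw [coc, Function.leftInverse_invFun hinj, Function.leftInverse_invFun hinj]

theorem isCoc (hD : D.Valid) (hinj : Function.Injective R.psi) : IsCoc (R.sub hD) R.coc := by
  rintro _ ⟨a, rfl⟩ _ ⟨b, rfl⟩ _ ⟨c, rfl⟩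
  rw [← R.psi_mul hD, ← R.psi_mul hD, R.coc_psi hinj, R.coc_psi hinj, R.coc_psi hinj,
    R.coc_psi hinj]
  exact D.coc_spec hD a b c

theorem delta_psi (hinj : Function.Injective R.psi) (a b : El) :
    FixedPair.delta R.coc (R.psi a) (R.psi b) = D.coc a b - D.coc b a := by
  rw [FixedPair.delta, R.coc_psi hinj, R.coc_psi hinj]

end Real

end Real

end Cfsg.Agent.H95.SplitModel
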